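import Groth.Agent.Flat2H.KoszulBasic
import Groth.Agent.Sga4h.H919.Les3

/-!
# The long exact sequence of a mapping cone of complexes of abelian groups
-/

set_option autoImplicit false
universe v

open CategoryTheory CategoryTheory.Limits CochainComplex HomologicalComplex

namespace Groth.Agent.Sga4h.H503.ConeLes

open Groth.Agent.Sga4h.H919.Les3 Groth.Agent.Flat2H.KoszulBasic

/-- Transport of exactness at the middle term of a short complex of abelian groups. -/
theorem exact_transport {X Y Z : AddCommGrpCat.{v}} (f : X ⟶ Y) (g : Y ⟶ Z) (w : f ≫ g = 0)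
    (h : (ShortComplex.mk f g w).Exact) {A B C : Type v} [AddCommGroup A] [AddCommGroup B] [AddCommGroup C]
    (eX : X ≅ AddCommGrpCat.of A) (eY : Y ≅ AddCommGrpCat.of B) (eZ : Z ≅ AddCommGrpCat.of C) (b : B) :
    (eY.inv ≫ g ≫ eZ.hom).hom b = 0 ↔ ∃ a : A, (eX.inv ≫ f ≫ eY.hom).hom a = b := by
  have h1 : (ShortComplex.mk (eX.inv ≫ f ≫ eY.hom) (eY.inv ≫ g ≫ eZ.hom) (by
      simp [reassoc_of% w])).Exact := by
    refine ShortComplex.exact_of_iso ?_ h
    exact ShortComplex.isoMk eX eY eZ (by simp) (by simp)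
  rw [ShortComplex.ab_exact_iff] at h1
  constructor
  · exact h1 b
  · rintro ⟨a, rfl⟩
    have h2 : (eX.inv ≫ f ≫ eY.hom) ≫ eY.inv ≫ g ≫ eZ.hom = 0 := by simp [reassoc_of% w]
    exact congrArg (fun t => t.hom a) h2

theorem nonempty_les {K L : CochainComplex AddCommGrpCat.{v} ℤ} (φ : K ⟶ L)
    {A B D : ℕ → Type v} [∀ q, AddCommGroup (A q)] [∀ q, AddCommGroup (B q)]
    [∀ q, AddCommGroup (D q)]
    (eA : ∀ q : ℕ, Nonempty (K.homology (q : ℤ) ≅ AddCommGrpCat.of (A q)))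
    (eB : ∀ q : ℕ, Nonempty (L.homology (q : ℤ) ≅ AddCommGrpCat.of (B q)))
    (eD : ∀ q : ℕ, Nonempty ((mappingCone φ).homology (q : ℤ) ≅ AddCommGrpCat.of (D q)))
    (h : IsZero ((mappingCone φ).homology (-1))) : Nonempty (Les A B D) := by
  replace eA := fun q => (eA q).some
  replace eB := fun q => (eB q).some
  replace eD := fun q => (eD q).some
  have hj : ∀ q : ℕ, (q : ℤ) + 1 = ((q + 1 : ℕ) : ℤ) := fun q => by push_cast; rfl
  refine ⟨{ α := fun q => ((eA q).inv ≫ homologyMap φ (q : ℤ) ≫ (eB q).hom).hom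
            β := fun q => ((eB q).inv ≫ homologyMap (mappingCone.inr φ) (q : ℤ) ≫ (eD q).hom).hom
            δ := fun q => ((eD q).inv ≫ coneδ φ (q : ℤ) ((q + 1 : ℕ) : ℤ) (hj q) ≫ (eA (q + 1)).hom).hom
            exB := fun q b => exact_transport _ _ _ (cone_exact₂ φ (q : ℤ)) _ _ _ b
            exD := fun q d => exact_transport _ _ _ (cone_exact₃ φ (q : ℤ) ((q + 1 : ℕ) : ℤ) (hj q)) _ _ _ d
            exA := fun q a => exact_transport _ _ _ (cone_exact₁ φ (q : ℤ) ((q + 1 : ℕ) : ℤ) (hj q)) _ _ _ a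
            inj := ?_ }⟩
  have h1 : Mono (homologyMap φ ((0 : ℕ) : ℤ)) :=
    (cone_exact₁ φ (-1) ((0 : ℕ) : ℤ) (by norm_num)).mono_g (h.eq_of_src _ _)
  have h2 : Mono ((eA 0).inv ≫ homologyMap φ ((0 : ℕ) : ℤ) ≫ (eB 0).hom) := inferInstance
  exact (AddCommGrpCat.mono_iff_injective _).1 h2

end Groth.Agent.Sga4h.H503.ConeLes
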