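import Groth.Agent.Etalg.LACoreB3
import Groth.Agent.UnramA.LAFormal810
import Groth.Agent.EtpbcB.GeomPt
import Groth.Agent.EtpbcB.SepClosedPoint
import Groth.Agent.EtpbcB.BCComp
import Groth.Agent.EtpbcA.SuppClosed
import Groth.Agent.CurvesA.ClosedPtSep
import Groth.Agent.Etcore.PushPoint
import Groth.Agent.EtpbcA.CdExact

/-!
# Complexes of sheaves supported at one point of a scheme over a separably closed field

`nonempty_homology_iso`: the cohomology of the global sections of a bounded below complex of acyclic sheaves on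
`W`, locally of finite type over a separably closed field, with acyclic stalks outside `w₀`, is the cohomology
of the stalk at `w₀`.
-/

set_option autoImplicit false
universe u

open CategoryTheory CategoryTheory.Limits AlgebraicGeometry Opposite HomologicalComplex

namespace Groth.Agent.Sga4h.H503.PointSupp

open Groth.Agent.Cohder.RDAcyc Groth.Agent.Etalg.LACoreB Groth.Agent.EtpbcB.SepClosedPoint

instance preservesFiniteLimits_pull' {X Y : Scheme.{u}} (f : X ⟶ Y) : PreservesFiniteLimits (EtCoh.pull f) :=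
  Groth.Agent.S0101.result f

/-- Direct images from separably closed points are exact. -/
theorem isAcyc_of_sepClosed {Ω : Type u} [Field Ω] [IsSepClosed Ω] {Z : Scheme.{u}}
    (g : Spec (CommRingCat.of Ω) ⟶ Z) (G : EtCoh.Ab (Spec (CommRingCat.of Ω))) : IsAcyc (EtCoh.push g) G := by
  intro q hq
  obtain ⟨q, rfl⟩ := Nat.exists_eq_succ_of_ne_zero hq.ne'
  have h1 : (EtCoh.push g).PreservesEpimorphisms := ⟨fun a _ => Etcore.PushPoint.epi_push_map g a⟩
  exact EtpbcA.CdExact.isZero_rightDerived_of_epi (EtCoh.push g) q G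

variable {k : Type u} [Field k] [IsSepClosed k] {W : Scheme.{u}} (g : W ⟶ Spec (CommRingCat.of k))
  [LocallyOfFiniteType g] (N : CochainComplex (EtCoh.Ab W) ℤ) (a : ℤ) [N.IsStrictlyGE a]
  (hN : ∀ m, IsAcyc (EtCoh.push g) (N.X m)) (w₀ : W)
  (hst : ∀ (Ω : Type u) [Field Ω] [IsSepClosed Ω] (ζ : Spec (CommRingCat.of Ω) ⟶ W),
    ζ default ≠ w₀ → (((EtCoh.stalk ζ).mapHomologicalComplex (ComplexShape.up ℤ)).obj N).Acyclic)

include hst in
theorem isZero_stalk_homology (m : ℤ) (Ω : Type u) [Field Ω] [IsSepClosed Ω]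
    (ζ : Spec (CommRingCat.of Ω) ⟶ W) (h : ζ default ≠ w₀) :
    IsZero ((EtCoh.stalk ζ).obj (N.homology m)) :=
  (isZero_map_homology_iff (EtCoh.stalk ζ) N m).2 (hst Ω ζ h m)

omit [IsSepClosed k] in
include g hst in
/-- If `w₀` is not closed, `N` is acyclic. -/
theorem acyclic_of_not_closed (hw : ¬ IsClosed ({w₀} : Set W)) : N.Acyclic := by
  intro m
  rw [exactAt_iff_isZero_homology]
  have hJ : JacobsonSpace W := LocallyOfFiniteType.jacobsonSpace g
  refine EtpbcB.GeomPt.isZero_of_veryDense EtpbcB.GeomPt.veryDense_closedPoints _ ?_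
  intro x hx
  obtain ⟨Ω, _, _, ξ, hξ⟩ := Etcore.Stalks.exists_geom x
  rw [← hξ, ← EtpbcB.GeomPt.isZero_stalk_iff]
  refine isZero_stalk_homology N w₀ hst m Ω ξ ?_
  rw [hξ]
  rintro rfl
  exact hw hx

/-- Global sections over a point. -/
noncomputable def gammaPushPull {κ : Type u} [Field κ] [IsSepClosed κ] (i : Spec (CommRingCat.of κ) ⟶ W) :
    (EtCoh.pull i ⋙ EtCoh.push i) ⋙ (EtCoh.push g ⋙ Γtop (Spec (CommRingCat.of k))) ≅ EtCoh.stalk i :=
  Functor.isoWhiskerLeft (EtCoh.pull i ⋙ EtCoh.push i) (gammaPush g) ≪≫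
    Functor.associator _ _ _ ≪≫ Functor.isoWhiskerLeft (EtCoh.pull i) (gammaPush i) ≪≫
    (stalkIsoGammaPull κ i).symm

instance preservesFiniteLimits_Γtop : PreservesFiniteLimits (Γtop (Spec (CommRingCat.of k))) :=
  preservesFiniteLimits_of_natIso (gammaIsoStalk k).symm

instance preservesFiniteColimits_Γtop : PreservesFiniteColimits (Γtop (Spec (CommRingCat.of k))) :=
  preservesFiniteColimits_of_natIso (gammaIsoStalk k).symm

include a hN hst in
/-- If `w₀` is closed. -/
theorem nonempty_iso_of_closed (hw : IsClosed ({w₀} : Set W)) {Ω₀ : Type u} [Field Ω₀] [IsSepClosed Ω₀]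
    (ζ₀ : Spec (CommRingCat.of Ω₀) ⟶ W) (h₀ : ζ₀ default = w₀) (m : ℤ) :
    Nonempty ((((EtCoh.push g ⋙ Γtop (Spec (CommRingCat.of k))).mapHomologicalComplex
      (ComplexShape.up ℤ)).obj N).homology m ≅
      (((EtCoh.stalk ζ₀).mapHomologicalComplex (ComplexShape.up ℤ)).obj N).homology m) := by
  have hκ : IsSepClosed (W.residueField w₀) := CurvesA.ClosedPtSep.isSepClosed_residueField g w₀ hw
  let i : Spec (CommRingCat.of (W.residueField w₀)) ⟶ W := W.fromSpecResidueField w₀
  have hi : IsClosedImmersion i := isClosed_singleton_iff_isClosedImmersion.1 hw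
  have hri : Set.range i = {w₀} := Scheme.range_fromSpecResidueField w₀
  have hid : i default = w₀ := by
    have : i default ∈ Set.range i := ⟨_, rfl⟩
    rwa [hri] at this
  have hex : PreservesFiniteColimits (EtCoh.push i) := EtpbcA.SuppClosed.preservesFiniteColimits_push i
  let u := unitC (EtCoh.pullPushAdj i) N
  have hu : QuasiIso u := by
    refine UnramA.LAFormal.quasiIso_natTrans (F := 𝟭 (EtCoh.Ab W)) (G := EtCoh.pull i ⋙ EtCoh.push i)
      (EtCoh.pullPushAdj i).unit N (fun m => ?_)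
    refine EtpbcA.SuppClosed.isIso_unit_of_supp i (N.homology m) ?_
    refine Etrest.Punctual186.supp_subset _ _ (fun x hx => ?_)
    obtain ⟨Ω, _, _, ξ, hξ⟩ := Etcore.Stalks.exists_geom x
    refine ⟨Ω, inferInstance, inferInstance, ξ, hξ, ?_⟩
    refine isZero_stalk_homology N w₀ hst m Ω ξ ?_
    rw [hξ]
    rintro rfl
    exact hx (hri.symm ▸ rfl)
  have hge : CochainComplex.IsStrictlyGE (((EtCoh.push i).mapHomologicalComplex (ComplexShape.up ℤ)).obj
      (((EtCoh.pull i).mapHomologicalComplex (ComplexShape.up ℤ)).obj N)) a := inferInstance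
  have h1 : QuasiIso (((EtCoh.push g).mapHomologicalComplex (ComplexShape.up ℤ)).map u) :=
    Groth.Agent.Cohder.RDPlusAcyc.quasiIso_map (EtCoh.push g) u a a hN (fun p =>
      EtpbcB.BCComp.acyclic_of_comp i g _ (isAcyc_of_sepClosed i _) (isAcyc_of_sepClosed (i ≫ g) _))
  have h2 : QuasiIso (((Γtop (Spec (CommRingCat.of k))).mapHomologicalComplex (ComplexShape.up ℤ)).map
      (((EtCoh.push g).mapHomologicalComplex (ComplexShape.up ℤ)).map u)) :=
    HomologicalComplex.quasiIso_map_of_preservesHomology _ _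
  obtain ⟨e⟩ := EtpbcB.GeomPointIndep.nonempty_stalkIso i ζ₀ (hid.trans h₀.symm)
  have e1 := (NatIso.mapHomologicalComplex (gammaPushPull g i ≪≫ e) (ComplexShape.up ℤ)).app N
  have h3 : IsIso (homologyMap (((Γtop (Spec (CommRingCat.of k))).mapHomologicalComplex (ComplexShape.up ℤ)).map
      (((EtCoh.push g).mapHomologicalComplex (ComplexShape.up ℤ)).map u)) m) :=
    (quasiIsoAt_iff_isIso_homologyMap _ m).1 (h2.quasiIsoAt m)
  exact ⟨@asIso _ _ _ _ _ h3 ≪≫ (HomologicalComplex.homologyFunctor _ _ m).mapIso e1⟩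

include a hN hst in
theorem nonempty_homology_iso {Ω₀ : Type u} [Field Ω₀] [IsSepClosed Ω₀]
    (ζ₀ : Spec (CommRingCat.of Ω₀) ⟶ W) (h₀ : ζ₀ default = w₀) (m : ℤ) :
    Nonempty ((((EtCoh.push g ⋙ Γtop (Spec (CommRingCat.of k))).mapHomologicalComplex
      (ComplexShape.up ℤ)).obj N).homology m ≅
      (((EtCoh.stalk ζ₀).mapHomologicalComplex (ComplexShape.up ℤ)).obj N).homology m) := by
  by_cases hw : IsClosed ({w₀} : Set W)
  · exact nonempty_iso_of_closed g N a hN w₀ hst hw ζ₀ h₀ m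
  · have h1 := acyclic_of_not_closed g N w₀ hst hw
    have h2 := acyclic_map_of_exact (EtCoh.stalk ζ₀) h1
    have h3 := acyclic_map_of_bounded (EtCoh.push g) a h1 hN
    have h4 := acyclic_map_of_exact (Γtop (Spec (CommRingCat.of k))) h3
    have h5 := (exactAt_iff_isZero_homology _ _).1 (h2 m)
    have h6 := (exactAt_iff_isZero_homology _ _).1 (h4 m)
    exact ⟨h6.iso h5⟩

end Groth.Agent.Sga4h.H503.PointSupp
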