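import Groth.Agent.Sga4h.H503.ConeLes
import Groth.Agent.Sga4h.H503.PointSupp
import Groth.Agent.Etalg.LACoreB
import Groth.Agent.Sga4h.StalkAcyc
import Groth.Agent.EtpbcB.IsoTransport

/-!
# The one-point nearby cycle sequence

`A` strictly henselian, `f : X ⟶ Spec A` proper, `F` killed by `n > 0`, `ε : Y ⟶ X` quasi-compact and
quasi-separated, `x₀` a point of the closed fibre such that `F` has zero stalk at `x₀` and `F ⟶ Rε_* ε⁻¹ F` is an
isomorphism at the other points of the closed fibre. Then there is a long exact sequence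
`H^q(X, F) → H^q(Y, ε⁻¹ F) → H^q(Y ×_X Spec O^sh_{X,x₀}, F) → H^{q+1}(X, F)`.
-/

set_option autoImplicit false
universe u

open CategoryTheory CategoryTheory.Limits AlgebraicGeometry Opposite HomologicalComplex
open IsLocalRing

namespace Groth.Agent.Sga4h.H503.OnePoint

open EtCoh Groth.Agent.Cohder.RDAcyc Groth.Agent.Etalg.LACoreB Groth.Agent.EtpbcB.NKill
  Groth.Agent.EtpbcB.SepClosedPoint Groth.Agent.EtpbcA.LA Groth.Agent.Etrest.StrictLoc
  Groth.Agent.Sga4h.H919.Les3 Groth.Agent.Sga4h.H503.PointSupp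

/-- The composite of the image of a single complex and a quasi-isomorphism. -/
theorem exists_resolution_map {C : Type*} [Category* C] [Abelian C] {D : Type*} [Category* D] [Abelian D]
    (L : C ⥤ D) [L.Additive] [PreservesFiniteLimits L] [PreservesFiniteColimits L] (F : C)
    (E : CochainComplex C ℤ) (a : (HomologicalComplex.single C (ComplexShape.up ℤ) 0).obj F ⟶ E)
    [QuasiIso a] (I : CochainComplex D ℤ) (j : (L.mapHomologicalComplex (ComplexShape.up ℤ)).obj E ⟶ I)
    [QuasiIso j] :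
    ∃ b : (HomologicalComplex.single D (ComplexShape.up ℤ) 0).obj (L.obj F) ⟶ I, QuasiIso b := by
  refine ⟨((HomologicalComplex.singleMapHomologicalComplex L (ComplexShape.up ℤ) 0).app F).inv ≫
    (L.mapHomologicalComplex (ComplexShape.up ℤ)).map a ≫ j, ?_⟩
  have h1 : QuasiIso ((L.mapHomologicalComplex (ComplexShape.up ℤ)).map a) :=
    HomologicalComplex.quasiIso_map_of_preservesHomology a L
  infer_instance

section base

variable (A : Type u) [CommRing A] [HenselianLocalRing A] [IsSepClosed (ResidueField A)]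

/-- The closed geometric point. -/
noncomputable abbrev cl : Spec (CommRingCat.of (ResidueField A)) ⟶ Spec (CommRingCat.of A) := resPt A

/-- The cohomology of `Z` over a strictly henselian local scheme is the stalk of the higher direct image
at the closed point. -/
theorem nonempty_stalk_Rpush {Z : Scheme.{u}} (g : Z ⟶ Spec (CommRingCat.of A)) [QuasiCompact g]
    [QuasiSeparated g] (G : Ab Z) (q : ℕ) :
    Nonempty ((stalk (cl A)).obj ((Rpush g q).obj G) ≅ AddCommGrpCat.of (H Z G q)) := by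
  obtain ⟨e⟩ := StalkAcyc.nonempty_stalk_iso g G (SLoc.isStrictLoc_id A) q
  have h1 : (resPt A ≫ 𝟙 (Spec (CommRingCat.of A))) = cl A := Category.comp_id _
  obtain ⟨e1⟩ := EtpbcB.GeomPointIndep.nonempty_stalkIso (cl A) (resPt A ≫ 𝟙 (Spec (CommRingCat.of A))) (by
    rw [h1])
  have e2 := EtpbcB.IsoTransport.HIso (pullback.fst g (𝟙 (Spec (CommRingCat.of A)))) G q
  exact ⟨e1.app _ ≪≫ e ≪≫ AddEquiv.toAddCommGrpIso e2⟩

/-- The cohomology of `f_* E` at the closed point. -/
theorem nonempty_homology_stalk_push {Z : Scheme.{u}} (g : Z ⟶ Spec (CommRingCat.of A)) [QuasiCompact g]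
    [QuasiSeparated g] (G : Ab Z) (E : CochainComplex (Ab Z) ℤ) [E.IsStrictlyGE 0]
    (a : (HomologicalComplex.single (Ab Z) (ComplexShape.up ℤ) 0).obj G ⟶ E) [QuasiIso a]
    (hE : ∀ m, IsAcyc (push g) (E.X m)) (q : ℕ) :
    Nonempty ((((push g ⋙ stalk (cl A)).mapHomologicalComplex (ComplexShape.up ℤ)).obj E).homology (q : ℤ) ≅
      AddCommGrpCat.of (H Z G q)) := by
  obtain ⟨e1⟩ := UnramA.LAFormal.nonempty_homology_iso (push g) G E 0 a hE q q rfl
  obtain ⟨e2⟩ := nonempty_stalk_Rpush A g G q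
  let K := ((push g).mapHomologicalComplex (ComplexShape.up ℤ)).obj E
  have e3 : (((stalk (cl A)).mapHomologicalComplex (ComplexShape.up ℤ)).obj K).homology (q : ℤ) ≅
      (stalk (cl A)).obj (K.homology (q : ℤ)) := (K.sc (q : ℤ)).mapHomologyIso (stalk (cl A))
  exact ⟨e3 ≪≫ (stalk (cl A)).mapIso e1 ≪≫ e2⟩

end base

section cone

variable {C : Type*} [Category* C] [Abelian C]

/-- If the source is acyclic, the target and the cone have the same cohomology. -/
theorem nonempty_homology_cone {K L : CochainComplex C ℤ} (φ : K ⟶ L) (hK : K.Acyclic) (m : ℤ) :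
    Nonempty ((CochainComplex.mappingCone φ).homology m ≅ L.homology m) := by
  have h1 : Mono (homologyMap (CochainComplex.mappingCone.inr φ) m) :=
    (Groth.Agent.Flat2H.KoszulBasic.cone_exact₂ φ m).mono_g
      (((exactAt_iff_isZero_homology _ _).1 (hK m)).eq_of_src _ _)
  have h2 : Epi (homologyMap (CochainComplex.mappingCone.inr φ) m) :=
    (Groth.Agent.Flat2H.KoszulBasic.cone_exact₃ φ m (m + 1) rfl).epi_f
      (((exactAt_iff_isZero_homology _ _).1 (hK (m + 1))).eq_of_tgt _ _)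
  have h3 : IsIso (homologyMap (CochainComplex.mappingCone.inr φ) m) := isIso_of_mono_of_epi _
  exact ⟨(asIso (homologyMap (CochainComplex.mappingCone.inr φ) m)).symm⟩

end cone

theorem resPt_default (R : Type u) [CommRing R] [IsLocalRing R] : resPt R default = closedPoint R :=
  resPt_closedPoint R _

variable {A : Type u} [CommRing A] [HenselianLocalRing A] [IsSepClosed (ResidueField A)]
  {X Y : Scheme.{u}} (f : X ⟶ Spec (CommRingCat.of A)) [IsProper f] {n : ℕ}

/-- **The one-point nearby cycle sequence.** -/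
theorem nonempty_les (hP : PBC0.{u}) (hn : 0 < n) (F : Ab X) (hF : KilledBy n F) (ε : Y ⟶ X) [QuasiCompact ε]
    [QuasiSeparated ε] (x₀ : X) (hx₀ : f x₀ = closedPoint A) {C : Type u} [CommRing C] [IsLocalRing C]
    (τ : Spec (CommRingCat.of C) ⟶ X) (hτ : IsStrictLoc τ) (hτ₀ : τ (closedPoint C) = x₀)
    {P : Scheme.{u}} {a : P ⟶ Y} {b : P ⟶ Spec (CommRingCat.of C)} (hPb : IsPullback a b ε τ)
    (h0 : ∀ (k : Type u) [Field k] [IsSepClosed k] (ξ : Spec (CommRingCat.of k) ⟶ X),
      ξ default = x₀ → IsZero ((stalk ξ).obj F))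
    (h : ∀ (k : Type u) [Field k] [IsSepClosed k] (ξ : Spec (CommRingCat.of k) ⟶ X),
      f (ξ default) = closedPoint A → ξ default ≠ x₀ → LAStalk ε F ξ) :
    Nonempty (Les (fun q => H X F q) (fun q => H Y ((pull ε).obj F) q)
      (fun q => H P ((pull a).obj ((pull ε).obj F)) q)) := by
  have hK0 : ∀ m, Killed n (((HomologicalComplex.single (EtCoh.Ab X) (ComplexShape.up ℤ) 0).obj F).X m) := by
    intro m
    by_cases hm : m = 0
    · subst hm
      exact killed_of_mono (HomologicalComplex.singleObjXSelf (ComplexShape.up ℤ) 0 F).hom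
        ((EtpbcB.NKillEt.killedBy_iff n F).1 hF)
    · exact (HomologicalComplex.isZero_single_obj_X (ComplexShape.up ℤ) 0 F m hm).eq_of_src _ _
  obtain ⟨E, α, hα, hE0, hE⟩ := EtpbcA.KilledCat.exists_resolution (n := n)
    ((HomologicalComplex.single (EtCoh.Ab X) (ComplexShape.up ℤ) 0).obj F) 0 hK0
  have hεE : CochainComplex.IsStrictlyGE
    (((EtCoh.pull ε).mapHomologicalComplex (ComplexShape.up ℤ)).obj E) 0 := inferInstance
  obtain ⟨I, j, hj, hI0, hI⟩ := EtpbcA.KilledCat.exists_resolution (n := n)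
    (((EtCoh.pull ε).mapHomologicalComplex (ComplexShape.up ℤ)).obj E) 0
      (fun m => killed_map (EtCoh.pull ε) (hE m).1)
  let Φ := unitC (EtCoh.pullPushAdj ε) E ≫
    ((EtCoh.push ε).mapHomologicalComplex (ComplexShape.up ℤ)).map j
  let K := CochainComplex.mappingCone Φ
  have hI0' : CochainComplex.IsStrictlyGE
    (((EtCoh.push ε).mapHomologicalComplex (ComplexShape.up ℤ)).obj I) 0 := inferInstance
  have hKge : K.IsStrictlyGE (-1) := CochainComplex.isStrictlyGE_mappingCone Φ 0 0 (-1) (by lia) (by lia)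
  -- the dictionary at geometric points
  have hQ : ∀ (k : Type u) [Field k] [IsSepClosed k] (ξ : Spec (CommRingCat.of k) ⟶ X),
      LAStalk ε F ξ ↔ (((EtCoh.stalk ξ).mapHomologicalComplex (ComplexShape.up ℤ)).obj K).Acyclic := by
    intro k _ _ ξ
    have h1 := EtpbcA.LAQ95.quasiIso_stalk_iff (EtCoh.pullPushAdj ε) (EtCoh.stalk ξ) F E α I j
      (fun m => EtpbcB.NKillEt.acyclic_push_of_nInj ε hn ((EtpbcB.NKillEt.killedBy_iff n _).2 (hI m).1) (hI m).2)
    have h2 : LAStalk ε F ξ ↔ IsIso ((EtCoh.stalk ξ).map ((EtCoh.pullPushAdj ε).unit.app F)) ∧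
        ∀ q : ℕ, 0 < q → IsZero ((EtCoh.stalk ξ).obj (((EtCoh.push ε).rightDerived q).obj
          ((EtCoh.pull ε).obj F))) := by
      rw [ConcreteCategory.isIso_iff_bijective]
      rfl
    rw [h2, ← h1, ← Cohder.CoconeSES.acyclic_mappingCone_iff]
    have e := CochainComplex.mappingCone.mapHomologicalComplexIso Φ (EtCoh.stalk ξ)
    exact ⟨fun h => acyclic_of_iso e.symm h, fun h => acyclic_of_iso e h⟩
  have hacE : ∀ m, IsAcyc (EtCoh.push f) (E.X m) := fun m =>
    EtpbcB.NKillEt.acyclic_push_of_nInj f hn ((EtpbcB.NKillEt.killedBy_iff n _).2 (hE m).1) (hE m).2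
  have hacI : ∀ m, IsAcyc (EtCoh.push f) ((EtCoh.push ε).obj (I.X m)) := fun m =>
    EtpbcB.NKillEt.acyclic_push_of_nInj f hn ((EtpbcB.NKillEt.killedBy_iff n _).2
      (killed_map (EtCoh.push ε) (hI m).1)) (EtpbcB.NKillEt.nInj_push ε (hI m).2)
  have hKX : ∀ m, K.X m ≅ E.X (m + 1) ⊞ (EtCoh.push ε).obj (I.X m) := fun m =>
    HomologicalComplex.homotopyCofiber.XIsoBiprod Φ m (m + 1) rfl
  have hKa : ∀ m, IsAcyc (EtCoh.push f) (K.X m) := fun m =>
    Cohder.RDUnbdd.isAcyc_of_iso _ (hKX m).symm (Cohder.RDUnbdd.isAcyc_biprod _ (hacE _) (hacI _))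
  have hKn : ∀ m, EtCoh.KilledBy n (K.X m) := fun m => (EtpbcB.NKillEt.killedBy_iff n _).2
    (killed_of_mono (hKX m).hom (killed_biprod (hE _).1 (killed_map (EtCoh.push ε) (hI m).1)))
  obtain ⟨β, hβ⟩ := exists_resolution_map (EtCoh.pull ε) F E α I j
  -- the point `x₀`
  have hsepC : IsSepClosed (ResidueField C) := hτ.sepClosed
  let ξ₀ : Spec (CommRingCat.of (ResidueField C)) ⟶ X := resPt C ≫ τ
  have hξ₀ : ξ₀ default = x₀ := (congrArg τ (resPt_closedPoint C _)).trans hτ₀
  -- the stalk of `E` at `x₀`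
  have hEst : (((EtCoh.stalk ξ₀).mapHomologicalComplex (ComplexShape.up ℤ)).obj E).Acyclic := by
    intro m
    rw [exactAt_iff_isZero_homology]
    have h1 : QuasiIso (((EtCoh.stalk ξ₀).mapHomologicalComplex (ComplexShape.up ℤ)).map α) :=
      HomologicalComplex.quasiIso_map_of_preservesHomology α _
    refine IsZero.of_iso ?_ (asIso (homologyMap
      (((EtCoh.stalk ξ₀).mapHomologicalComplex (ComplexShape.up ℤ)).map α) m)).symm
    rw [← exactAt_iff_isZero_homology]
    apply ExactAt.of_isZero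
    by_cases hm : m = 0
    · subst hm
      exact (h0 _ ξ₀ hξ₀).of_iso ((EtCoh.stalk ξ₀).mapIso
        (HomologicalComplex.singleObjXSelf (ComplexShape.up ℤ) 0 F))
    · exact (EtCoh.stalk ξ₀).map_isZero
        (HomologicalComplex.isZero_single_obj_X (ComplexShape.up ℤ) 0 F m hm)
  -- the cohomology of the stalk of `K` at `x₀`
  have hKst : ∀ m : ℤ, Nonempty ((((EtCoh.stalk ξ₀).mapHomologicalComplex (ComplexShape.up ℤ)).obj K).homology m ≅
      (((EtCoh.stalk ξ₀).mapHomologicalComplex (ComplexShape.up ℤ)).obj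
        (((EtCoh.push ε).mapHomologicalComplex (ComplexShape.up ℤ)).obj I)).homology m) := by
    intro m
    obtain ⟨e1⟩ := nonempty_homology_cone
      (((EtCoh.stalk ξ₀).mapHomologicalComplex (ComplexShape.up ℤ)).map Φ) hEst m
    have e := CochainComplex.mappingCone.mapHomologicalComplexIso Φ (EtCoh.stalk ξ₀)
    exact ⟨(HomologicalComplex.homologyFunctor _ _ m).mapIso e ≪≫ e1⟩
  -- the closed fibre
  let p := cl A
  have hp : p default = closedPoint A := resPt_default A
  let σ := pullback.fst f p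
  let fs := pullback.snd f p
  have hsq : IsPullback σ fs f p := IsPullback.of_hasPullback f p
  have hfs : IsProper fs := MorphismProperty.of_isPullback hsq inferInstance
  have hpcl : IsClosedImmersion p := IsClosedImmersion.spec_of_surjective _ residue_surjective
  have hσ : IsClosedImmersion σ := inferInstance
  let N := ((EtCoh.pull σ).mapHomologicalComplex (ComplexShape.up ℤ)).obj K
  have hNge : CochainComplex.IsStrictlyGE N (-1) := inferInstance
  have hpbc := fun m => hP _ _ _ _ f p fs σ hsq (K.X m)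
    (Groth.Agent.Etrest.ConstBasic.isTorsion_of_killedBy hn (hKn m))
  have hNa : ∀ m, IsAcyc (EtCoh.push fs) (N.X m) := by
    intro m q hq
    obtain ⟨e⟩ := (hpbc m).1 q
    exact ((EtCoh.pull p).map_isZero (hKa m q hq)).of_iso e.symm
  let βN : ((EtCoh.pull p).mapHomologicalComplex (ComplexShape.up ℤ)).obj
        (((EtCoh.push f).mapHomologicalComplex (ComplexShape.up ℤ)).obj K) ⟶
        ((EtCoh.push fs).mapHomologicalComplex (ComplexShape.up ℤ)).obj N :=
      { f := fun m => (EtpbcB.BCCalc.bcNat hsq.w).app (K.X m)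
        comm' := fun p q _ => ((EtpbcB.BCCalc.bcNat hsq.w).naturality (K.d p q)).symm }
  have hβN : IsIso βN := by
    have h1 : ∀ m, IsIso (βN.f m) := fun m => (hpbc m).2
    exact HomologicalComplex.Hom.isIso_of_components βN
  obtain ⟨w₀, hw₀, -⟩ := Scheme.Pullback.exists_preimage_pullback (f := f) (g := p) x₀ default
    (hx₀.trans hp.symm)
  obtain ⟨Ω, _, _, ζ₀, hζ₀⟩ := EtpbcA.Germ.exists_geomPt_aux (pullback f p) w₀
  have hst : ∀ (Ω : Type u) [Field Ω] [IsSepClosed Ω] (ζ : Spec (CommRingCat.of Ω) ⟶ pullback f p),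
      ζ default ≠ w₀ → (((EtCoh.stalk ζ).mapHomologicalComplex (ComplexShape.up ℤ)).obj N).Acyclic := by
    intro Ω _ _ ζ hζ
    have h1 : (((EtCoh.stalk (ζ ≫ σ)).mapHomologicalComplex (ComplexShape.up ℤ)).obj K).Acyclic := by
      refine (hQ Ω (ζ ≫ σ)).1 (h Ω (ζ ≫ σ) ?_ ?_)
      · have h2 : f ((ζ ≫ σ) default) = p (fs (ζ default)) := by
          have h3 := congrArg (fun (φ : Spec (CommRingCat.of Ω) ⟶ Spec (CommRingCat.of A)) => φ default)
            (show (ζ ≫ σ) ≫ f = (ζ ≫ fs) ≫ p by rw [Category.assoc, Category.assoc, hsq.w])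
          simpa using h3
        rw [h2, ← hp]
        congr 1
        exact Subsingleton.elim (α := Spec (CommRingCat.of (ResidueField A))) _ _
      · intro h3
        apply hζ
        apply hσ.isClosedEmbedding.injective
        exact h3.trans hw₀.symm
    exact acyclic_map_congr (Etbase.StalkPull.stalkPullIso σ ζ) h1
  -- the cohomology of `f_* K` at the closed point
  have hK1 : ∀ m : ℤ, Nonempty ((((push f ⋙ stalk p).mapHomologicalComplex (ComplexShape.up ℤ)).obj K).homology m ≅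
      (((EtCoh.stalk ξ₀).mapHomologicalComplex (ComplexShape.up ℤ)).obj
        (((EtCoh.push ε).mapHomologicalComplex (ComplexShape.up ℤ)).obj I)).homology m) := by
    intro m
    obtain ⟨e1⟩ := PointSupp.nonempty_homology_iso fs N (-1) hNa w₀ hst ζ₀ hζ₀ m
    obtain ⟨e2⟩ := EtpbcB.GeomPointIndep.nonempty_stalkIso (ζ₀ ≫ σ) ξ₀ (by
      rw [Scheme.Hom.comp_apply, hζ₀, hξ₀]
      exact hw₀)
    obtain ⟨e3⟩ := hKst m
    let G := (Γtop (Spec (CommRingCat.of (ResidueField A)))).mapHomologicalComplex (ComplexShape.up ℤ)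
    -- `stalk_p f_* K ≅ Γ(p^* f_* K) ≅ Γ(fs_* N)`
    have e4 : ((push f ⋙ stalk p).mapHomologicalComplex (ComplexShape.up ℤ)).obj K ≅
        G.obj (((EtCoh.pull p).mapHomologicalComplex (ComplexShape.up ℤ)).obj
          (((EtCoh.push f).mapHomologicalComplex (ComplexShape.up ℤ)).obj K)) :=
      (NatIso.mapHomologicalComplex (stalkIsoGammaPull (ResidueField A) p) (ComplexShape.up ℤ)).app
        (((EtCoh.push f).mapHomologicalComplex (ComplexShape.up ℤ)).obj K)
    have e5 := G.mapIso (asIso βN)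
    have e6 : ((EtCoh.stalk ζ₀).mapHomologicalComplex (ComplexShape.up ℤ)).obj N ≅
        ((EtCoh.stalk ξ₀).mapHomologicalComplex (ComplexShape.up ℤ)).obj K :=
      (NatIso.mapHomologicalComplex ((Etbase.StalkPull.stalkPullIso σ ζ₀).symm ≪≫ e2)
        (ComplexShape.up ℤ)).app K
    exact ⟨(HomologicalComplex.homologyFunctor _ _ m).mapIso (e4 ≪≫ e5) ≪≫ e1 ≪≫
      (HomologicalComplex.homologyFunctor _ _ m).mapIso e6 ≪≫ e3⟩
  -- conclusion
  let T := push f ⋙ stalk p
  have hT : CochainComplex.mappingCone ((T.mapHomologicalComplex (ComplexShape.up ℤ)).map Φ) ≅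
      (T.mapHomologicalComplex (ComplexShape.up ℤ)).obj K :=
    (CochainComplex.mappingCone.mapHomologicalComplexIso Φ T).symm
  refine ConeLes.nonempty_les ((T.mapHomologicalComplex (ComplexShape.up ℤ)).map Φ)
    (fun q => nonempty_homology_stalk_push A f F E α hacE q) (fun q => ?_) (fun q => ?_) ?_
  · obtain ⟨e⟩ := nonempty_homology_stalk_push A (ε ≫ f) ((pull ε).obj F) I β (fun m =>
      EtpbcB.NKillEt.acyclic_push_of_nInj (ε ≫ f) hn
        ((EtpbcB.NKillEt.killedBy_iff n _).2 (hI m).1) (hI m).2) q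
    have e1 := (NatIso.mapHomologicalComplex (Functor.isoWhiskerRight (EtCoh.pushComp f ε) (stalk p))
      (ComplexShape.up ℤ)).app I
    exact ⟨(HomologicalComplex.homologyFunctor _ _ (q : ℤ)).mapIso e1 ≪≫ e⟩
  · obtain ⟨e1⟩ := hK1 q
    obtain ⟨e2⟩ := UnramA.LAFormal.nonempty_homology_iso (push ε) ((pull ε).obj F) I 0 β (fun m =>
      EtpbcB.NKillEt.acyclic_push_of_nInj ε hn
        ((EtpbcB.NKillEt.killedBy_iff n _).2 (hI m).1) (hI m).2) q q rfl
    obtain ⟨e3⟩ := StalkAcyc.nonempty_stalk_iso ε ((pull ε).obj F) hτ q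
    have e4 := EtpbcB.IsoTransport.HIsoPullback (IsPullback.of_hasPullback ε τ) hPb ((pull ε).obj F) q
    let M := ((EtCoh.push ε).mapHomologicalComplex (ComplexShape.up ℤ)).obj I
    have e5 : (((EtCoh.stalk ξ₀).mapHomologicalComplex (ComplexShape.up ℤ)).obj M).homology (q : ℤ) ≅
      (stalk ξ₀).obj (M.homology (q : ℤ)) := (M.sc (q : ℤ)).mapHomologyIso (stalk ξ₀)
    exact ⟨(HomologicalComplex.homologyFunctor _ _ (q : ℤ)).mapIso hT ≪≫ e1 ≪≫ e5 ≪≫
      (stalk ξ₀).mapIso e2 ≪≫ e3 ≪≫ AddEquiv.toAddCommGrpIso e4⟩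
  · obtain ⟨e1⟩ := hK1 (-1)
    refine IsZero.of_iso ?_ ((HomologicalComplex.homologyFunctor _ _ (-1 : ℤ)).mapIso hT ≪≫ e1)
    refine (ExactAt.of_isZero ?_).isZero_homology
    exact (stalk ξ₀).map_isZero ((push ε).map_isZero (I.isZero_of_isStrictlyGE 0 (-1) (by decide)))

end Groth.Agent.Sga4h.H503.OnePoint
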