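import Groth.Agent.Sga4h.H503.OnePoint
import Groth.Agent.Sga4h.H919.P1Main
import Groth.Agent.S0001

/-!
# The one-point nearby cycle sequence, final form
-/

set_option autoImplicit false
universe u

open CategoryTheory CategoryTheory.Limits AlgebraicGeometry Opposite

namespace Groth.Agent.Sga4h.H503.OnePointFin

/-- `(O4-b)`. -/
theorem onePointLes : Groth.Agent.Sga4h.H919.P1Main.OnePointLes.{u} := by
  intro A _ _ _ X Y f _ n hn F hF ε _ _ x₀ hx₀ C _ _ τ hτ hτ₀ P a b hP h0 h
  exact OnePoint.nonempty_les f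
    (fun X Y X' Y' f g f' g' h _ F hF => Groth.Agent.S0001.result X Y X' Y' f g f' g' h F hF)
    hn F hF ε x₀ hx₀ τ hτ hτ₀ hP h0 h

end Groth.Agent.Sga4h.H503.OnePointFin
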